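import Groth.Agent.H8Props.HensEFT.Finite
import Groth.Agent.H9Hens.Local
import Groth.Agent.H9Hens.Pair
import Groth.Agent.S0505
import Groth.Agent.S0511
import Groth.Agent.S0506
import Groth.Agent.S0507

/-!
# Descent along finite injective local homomorphisms
-/

set_option autoImplicit false
set_option linter.unusedSectionVars false
set_option linter.style.haveILetI false
set_option maxHeartbeats 1600000
universe u

open IsLocalRing

namespace Groth.Agent.H8Props.HensEFT

/-- A finite algebra over a henselian local ring inside a local ring is local. -/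
theorem isLocalRing_of_injective {R D T : Type u} [CommRing R] [HenselianLocalRing R] [CommRing D] [Algebra R D]
    [Module.Finite R D] [CommRing T] [IsLocalRing T] (i : D →+* T) (hi : Function.Injective i) : IsLocalRing D := by
  haveI : Nontrivial D := i.domain_nontrivial
  obtain ⟨n₀, hn₀⟩ := Ideal.exists_maximal D
  refine IsLocalRing.of_unique_max_ideal ⟨n₀, hn₀, fun n hn => ?_⟩
  by_contra hne
  obtain ⟨e, he, hen, heo⟩ := H9Hens.exists_idem_isolating (R := R) (B := D)
    (fun c hc => H9Hens.exists_idem_lift (A := R) (I := maximalIdeal R) c hc) ⟨n₀, hn₀⟩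
  have hne' : (⟨n, hn⟩ : MaximalSpectrum D) ≠ ⟨n₀, hn₀⟩ := fun h => hne (congrArg MaximalSpectrum.asIdeal h)
  have he' : i e * i e = i e := by rw [← map_mul]; exact congrArg i he.eq
  rcases isUnit_or_isUnit_one_sub_self (i e) with hu | hu
  · have h1 : i e = 1 := hu.mul_left_cancel (by rw [he', mul_one])
    have : e = 1 := hi (by rw [h1, map_one])
    exact hn.ne_top ((Ideal.eq_top_iff_one _).2 (this ▸ heo _ hne'))
  · have h1 : i e = 0 := hu.mul_right_eq_zero.1 (by rw [sub_mul, one_mul, he', sub_self])
    have : e = 0 := hi (by rw [h1, map_zero])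
    exact hen (this ▸ zero_mem _)

/-- Descent of being a henselization of a local ring essentially of finite type along finite injective
local homomorphisms. -/
theorem isHensEFT_of_injective {A H H1 : Type u} [CommRing A] [IsNoetherianRing A] [CommRing H]
    [HenselianLocalRing H] [CommRing H1] [IsLocalRing H1] [Algebra A H] [Algebra A H1] [Algebra H H1]
    [IsScalarTower A H H1] [IsLocalHom (algebraMap H H1)] [Module.Finite H H1]
    (hinj : Function.Injective (algebraMap H H1)) (hH1 : IsHensEFT A H1) : IsHensEFT A H := by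
  classical
  obtain ⟨B1, _, _, _, p1, _, _, _, _, hB1⟩ := hH1
  let L1 := Localization.AtPrime p1
  let v : B1 →ₐ[A] H1 := (IsScalarTower.toAlgHom A L1 H1).comp (IsScalarTower.toAlgHom A B1 L1)
  obtain ⟨s, hs⟩ := (inferInstance : Algebra.FiniteType A B1).1
  choose f hfm hf using fun b : s => Algebra.IsIntegral.isIntegral (R := H) (v b)
  let B0 : Subalgebra A H := Algebra.adjoin A ((Finset.univ.biUnion fun b : s => (f b).coeffs : Finset H) : Set H)
  haveI : Algebra.FiniteType A B0 :=
    Algebra.FiniteType.adjoin_of_finite (Finset.finite_toSet _)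
  haveI : IsNoetherianRing B0 := Algebra.FiniteType.isNoetherianRing A B0
  let p0 : Ideal B0 := (maximalIdeal H).comap B0.val
  haveI : p0.IsPrime := Ideal.comap_isPrime _ _
  let L0 := Localization.AtPrime p0
  let g0 : L0 →+* H := IsLocalization.lift (M := p0.primeCompl) (g := B0.val.toRingHom)
    fun y => notMem_maximalIdeal.1 y.2
  haveI : IsLocalHom g0 := H9Hens.isLocalHom_of_atPrime p0 g0 fun d hd => by
    show g0 (algebraMap B0 L0 d) ∈ _
    rw [IsLocalization.lift_eq]
    exact hd
  obtain ⟨H0, _, _, _, _, hH0⟩ := Groth.Agent.S0506.result L0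
  haveI := Hensel.IsHenselization.henselian (R := L0) (S := H0)
  haveI : IsNoetherianRing H0 := (Groth.Agent.S0511.result L0 H0).1 inferInstance
  obtain ⟨g, hg, -⟩ := Hensel.IsHenselization.universal (R := L0) (S := H0) H g0 inferInstance
  letI : Algebra H0 H := g.toAlgebra
  letI : Algebra A H0 := ((algebraMap L0 H0).comp (algebraMap A L0)).toAlgebra
  haveI : IsScalarTower A L0 H0 := IsScalarTower.of_algebraMap_eq fun _ => rfl
  have hgB : ∀ z : B0, g (algebraMap L0 H0 (algebraMap B0 L0 z)) = z.1 := fun z => by
    rw [← RingHom.comp_apply g, hg]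
    exact IsLocalization.lift_eq _ z
  haveI : IsScalarTower A H0 H := IsScalarTower.of_algebraMap_eq fun a => by
    show _ = g (algebraMap L0 H0 (algebraMap A L0 a))
    rw [IsScalarTower.algebraMap_apply A B0 L0, hgB]
    rfl
  haveI hgl : IsLocalHom g := ⟨fun z hz => notMem_maximalIdeal.1 fun hz' => by
    rw [← Groth.Agent.S0507.result L0 H0] at hz'
    have h1 : g z ∈ maximalIdeal H := by
      have h2 := Ideal.mem_map_of_mem g hz'
      rw [Ideal.map_map, hg] at h2
      exact map_maximalIdeal_le g0 h2
    exact (mem_maximalIdeal _).1 h1 hz⟩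
  haveI : IsLocalHom (algebraMap H0 H) := hgl
  letI : Algebra H0 H1 := ((algebraMap H H1).comp (algebraMap H0 H)).toAlgebra
  haveI : IsScalarTower H0 H H1 := IsScalarTower.of_algebraMap_eq fun _ => rfl
  haveI : IsScalarTower A H0 H1 := IsScalarTower.of_algebraMap_eq fun a => by
    rw [IsScalarTower.algebraMap_apply A H H1, IsScalarTower.algebraMap_apply A H0 H,
      ← IsScalarTower.algebraMap_apply H0 H H1]
  have hint : ∀ b : s, IsIntegral H0 (v b) := by
    intro b
    have hl : f b ∈ Polynomial.lifts (algebraMap H0 H) := by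
      rw [Polynomial.lifts_iff_coeff_lifts]
      intro j
      by_cases hc : (f b).coeff j = 0
      · exact ⟨0, by rw [map_zero, hc]⟩
      · exact ⟨_, hgB ⟨(f b).coeff j, Algebra.subset_adjoin (Finset.mem_coe.2 (Finset.mem_biUnion.2
          ⟨b, Finset.mem_univ _, Polynomial.coeff_mem_coeffs hc⟩))⟩⟩
    obtain ⟨P, hP, -, hPm⟩ := Polynomial.lifts_and_degree_eq_and_monic hl (hfm b)
    refine ⟨P, hPm, ?_⟩
    have h := hf b
    rw [← hP, Polynomial.eval₂_map, ← IsScalarTower.algebraMap_eq] at h
    exact h
  let T : Set H1 := Set.range fun b : s => v b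
  let D : Subalgebra H0 H1 := Algebra.adjoin H0 T
  haveI : Module.Finite H0 D := Module.Finite.iff_fg.2
    (fg_adjoin_of_finite (Set.finite_range _) (by rintro _ ⟨b, rfl⟩; exact hint b))
  haveI : IsLocalRing D := isLocalRing_of_injective (R := H0) D.val.toRingHom Subtype.val_injective
  haveI : HenselianLocalRing D := Groth.Agent.S0505.result H0 D
  have hvD : ∀ z : B1, v z ∈ D := by
    intro z
    have hz : z ∈ Algebra.adjoin A (s : Set B1) := hs ▸ Algebra.mem_top
    have h1 : v z ∈ Algebra.adjoin A T := by
      have h2 : v z ∈ (Algebra.adjoin A (s : Set B1)).map v := ⟨z, hz, rfl⟩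
      rw [AlgHom.map_adjoin] at h2
      refine Algebra.adjoin_mono ?_ h2
      rintro _ ⟨b, hb, rfl⟩
      exact ⟨⟨b, hb⟩, rfl⟩
    have hle : Algebra.adjoin A T ≤ D.restrictScalars A := Algebra.adjoin_le Algebra.subset_adjoin
    exact hle h1
  -- units of `D`
  have hDu : ∀ x : D, IsUnit (x : H1) → IsUnit x := by
    intro x hx
    by_contra hn
    have hxm : x ∈ maximalIdeal D := hn
    haveI : Algebra.IsIntegral H0 D := Algebra.IsIntegral.of_finite H0 D
    have hmD : ∀ P : Ideal D, P.IsPrime → (maximalIdeal H0).map (algebraMap H0 D) ≤ P → P = maximalIdeal D := by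
      intro P _ hP
      refine eq_maximalIdeal (Ideal.isMaximal_of_isIntegral_of_isMaximal_comap (R := H0) P ?_)
      rw [← (maximalIdeal.isMaximal H0).eq_of_le (Ideal.comap_isPrime _ P).ne_top (Ideal.map_le_iff_le_comap.1 hP)]
      exact maximalIdeal.isMaximal H0
    haveI : ((maximalIdeal H1).comap D.val.toRingHom).IsPrime := Ideal.comap_isPrime _ _
    have h1 := hmD ((maximalIdeal H1).comap D.val.toRingHom) inferInstance (Ideal.map_le_iff_le_comap.2 fun z hz =>
      show algebraMap H0 H1 z ∈ maximalIdeal H1 from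
        map_nonunit (algebraMap H H1) _ (map_nonunit (algebraMap H0 H) z hz))
    rw [← h1] at hxm
    exact (mem_maximalIdeal _).1 hxm hx
  let u : B1 →+* D := (v : B1 →+* H1).codRestrict D.toSubring hvD
  let w : L1 →+* D := IsLocalization.lift (M := p1.primeCompl) (g := u) fun y => hDu _ (by
    show IsUnit (algebraMap L1 H1 (algebraMap B1 L1 y))
    exact (IsLocalization.map_units L1 y).map _)
  have hw : D.val.toRingHom.comp w = algebraMap L1 H1 := by
    refine IsLocalization.ringHom_ext p1.primeCompl (RingHom.ext fun z => ?_)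
    show ((w (algebraMap B1 L1 z) : D) : H1) = _
    rw [IsLocalization.lift_eq]
    rfl
  haveI : IsLocalHom w := ⟨fun z hz => isUnit_of_map_unit (algebraMap L1 H1) z (by
    rw [← hw]; exact hz.map D.val.toRingHom)⟩
  obtain ⟨h, hh, -⟩ := Hensel.IsHenselization.universal (R := L1) (S := H1) D w inferInstance
  haveI := Hensel.IsHenselization.henselian (R := L1) (S := H1)
  obtain ⟨g₁, -, hu⟩ := Hensel.IsHenselization.universal (R := L1) (S := H1) H1 (algebraMap L1 H1) inferInstance
  have hid : D.val.toRingHom.comp h = RingHom.id H1 :=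
    (hu _ (by show (D.val.toRingHom.comp h).comp (algebraMap L1 H1) = _; rw [RingHom.comp_assoc, hh, hw])).trans (hu _ (RingHom.id_comp _)).symm
  have hsurj : Function.Surjective D.val := fun x => ⟨h x, RingHom.congr_fun hid x⟩
  haveI : Module.Finite H0 H1 := Module.Finite.of_surjective D.val.toLinearMap hsurj
  haveI : Module.Finite H0 H := Module.Finite.of_injective ((Algebra.ofId H H1).toLinearMap.restrictScalars H0) hinj
  have hH0' : IsHensEFT A H0 :=
    ⟨B0, inferInstance, inferInstance, inferInstance, p0, inferInstance, inferInstance, inferInstance,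
      inferInstance, hH0⟩
  exact isHensEFT_of_finite hH0'

end Groth.Agent.H8Props.HensEFT
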