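import Groth.Agent.H8Props.HensEFT.Stage
import Groth.Agent.H9Hens.PairBaseChange
import Groth.Agent.H12AlgSp.EtLocalRing
import Groth.Agent.S0508
import Mathlib.RingTheory.Localization.Finiteness
import Mathlib.RingTheory.IsTensorProduct
import Mathlib.RingTheory.FinitePresentation
import Mathlib.RingTheory.MvPolynomial.Basic

/-!
# Finite local algebras over henselizations of local rings essentially of finite type
-/

set_option autoImplicit false
set_option linter.unusedSectionVars false
set_option linter.style.haveILetI false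
set_option maxHeartbeats 1600000
set_option synthInstance.maxHeartbeats 200000
universe u

open IsLocalRing TensorProduct MvPolynomial

namespace Groth.Agent.H8Props.HensEFT

/-- A finite presentation of a finite algebra is defined over a stage, with monic relations. -/
theorem exists_model {E H H1 : Type u} [CommRing E] [CommRing H] [CommRing H1] [Algebra E H] [Algebra H H1]
    [Algebra E H1] [IsScalarTower E H H1] [Nontrivial H] {n : ℕ} (ψ : MvPolynomial (Fin n) H →ₐ[H] H1)
    (hψ : Function.Surjective ψ) (G : Finset (MvPolynomial (Fin n) H))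
    (hG : Ideal.span (G : Set (MvPolynomial (Fin n) H)) = RingHom.ker ψ)
    (f : Fin n → Polynomial H) (hfm : ∀ i, (f i).Monic) (hf : ∀ i, (f i).aeval (ψ (X i)) = 0)
    (hfE : ∀ i j, (f i).coeff j ∈ Set.range (algebraMap E H))
    (hGE : ∀ g ∈ G, ∀ d, MvPolynomial.coeff d g ∈ Set.range (algebraMap E H)) :
    ∃ (C0 : Type u) (_ : CommRing C0) (_ : Algebra E C0) (_ : Module.Finite E C0) (χ : C0 →ₐ[E] H1),
      Function.Bijective (Algebra.TensorProduct.lift (Algebra.ofId H H1) χ (fun _ _ => Commute.all _ _) :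
        H ⊗[E] C0 →ₐ[H] H1) := by
  classical
  have hf' : ∀ i, ∃ f' : Polynomial E, f'.map (algebraMap E H) = f i ∧ f'.Monic := fun i => by
    obtain ⟨f', hf', -, hm⟩ := Polynomial.lifts_and_degree_eq_and_monic
      ((Polynomial.lifts_iff_coeff_lifts _).2 (hfE i)) (hfm i)
    exact ⟨f', hf', hm⟩
  choose f' hf' hfm' using hf'
  have hG' : ∀ g : G, ∃ g' : MvPolynomial (Fin n) E, MvPolynomial.map (algebraMap E H) g' = g := fun g => by
    refine MvPolynomial.mem_range_map_iff_coeffs_subset.2 ?_
    intro c hc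
    obtain ⟨d, -, rfl⟩ := MvPolynomial.mem_coeffs_iff.1 hc
    exact hGE g.1 g.2 d
  choose g' hg' using hG'
  let I₀ : Ideal (MvPolynomial (Fin n) E) :=
    Ideal.span (Set.range (fun i => Polynomial.aeval (X i) (f' i)) ∪ Set.range g')
  let C0 := MvPolynomial (Fin n) E ⧸ I₀
  haveI : Module.Finite E C0 := by
    haveI : Algebra.IsIntegral E C0 := by
      refine ⟨fun z => ?_⟩
      obtain ⟨P, rfl⟩ := Ideal.Quotient.mkₐ_surjective E I₀ z
      induction P using MvPolynomial.induction_on with
      | C c => rw [← algebraMap_eq, AlgHom.commutes]; exact isIntegral_algebraMap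
      | add P Q hP hQ => rw [map_add]; exact hP.add hQ
      | mul_X P i hP =>
        rw [map_mul]
        refine hP.mul ⟨f' i, hfm' i, ?_⟩
        rw [← Polynomial.aeval_def, Polynomial.aeval_algHom_apply]
        exact Ideal.Quotient.eq_zero_iff_mem.2 (Ideal.subset_span (Or.inl ⟨i, rfl⟩))
    exact Algebra.IsIntegral.finite
  let y : Fin n → H1 := fun i => ψ (X i)
  have hψy : ψ = aeval y := MvPolynomial.algHom_ext fun i => (aeval_X y i).symm
  let χ : C0 →ₐ[E] H1 := Ideal.Quotient.liftₐ I₀ (aeval y) (by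
    intro z hz
    induction hz using Submodule.span_induction with
    | mem z hz =>
      rcases hz with ⟨i, rfl⟩ | ⟨g, rfl⟩
      · rw [← Polynomial.aeval_algHom_apply, aeval_X, ← Polynomial.aeval_map_algebraMap H, hf']
        exact hf i
      · rw [← MvPolynomial.aeval_map_algebraMap H, hg', ← hψy]
        exact RingHom.mem_ker.1 (hG ▸ Ideal.subset_span g.2)
    | zero => rw [map_zero]
    | add a b _ _ ha hb => rw [map_add, ha, hb, add_zero]
    | smul a b _ hb => rw [smul_eq_mul, map_mul, hb, mul_zero])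
  have hχ : ∀ i, χ (Ideal.Quotient.mk I₀ (X i)) = y i := fun i => aeval_X _ i
  refine ⟨C0, inferInstance, inferInstance, inferInstance, χ, ?_⟩
  let Θ : H ⊗[E] C0 →ₐ[H] H1 := Algebra.TensorProduct.lift (Algebra.ofId H H1) χ fun _ _ => Commute.all _ _
  let σ : MvPolynomial (Fin n) H →ₐ[H] H ⊗[E] C0 := aeval fun i => (1 : H) ⊗ₜ[E] Ideal.Quotient.mk I₀ (X i)
  have hσG : ∀ z ∈ RingHom.ker ψ, σ z = 0 := by
    intro z hz
    rw [← hG] at hz
    induction hz using Submodule.span_induction with
    | mem z hz =>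
      have e1 : σ (MvPolynomial.map (algebraMap E H) (g' ⟨z, hz⟩)) =
          (1 : H) ⊗ₜ[E] Ideal.Quotient.mk I₀ (g' ⟨z, hz⟩) := by
        rw [show σ (MvPolynomial.map (algebraMap E H) (g' ⟨z, hz⟩)) =
          aeval (fun i => (1 : H) ⊗ₜ[E] Ideal.Quotient.mk I₀ (X i)) (g' ⟨z, hz⟩) from
            MvPolynomial.aeval_map_algebraMap H _ _]
        exact DFunLike.congr_fun (MvPolynomial.algHom_ext (f := aeval (fun i => (1 : H) ⊗ₜ[E] Ideal.Quotient.mk I₀ (X i)))
          (g := (Algebra.TensorProduct.includeRight).comp (Ideal.Quotient.mkₐ E I₀)) fun i => aeval_X _ i)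
          (g' ⟨z, hz⟩)
      rw [hg'] at e1
      rw [e1, Ideal.Quotient.eq_zero_iff_mem.2 (show g' ⟨z, hz⟩ ∈ I₀ from Ideal.subset_span (Or.inr ⟨⟨z, hz⟩, rfl⟩)),
        TensorProduct.tmul_zero]
    | zero => rw [map_zero]
    | add a b _ _ ha hb => rw [map_add, ha, hb, add_zero]
    | smul a b _ hb =>
      rw [smul_eq_mul, map_mul, hb]
      exact mul_zero (σ a)
  have hΘσ : ∀ P, Θ (σ P) = ψ P := fun P => DFunLike.congr_fun
    (MvPolynomial.algHom_ext (f := Θ.comp σ) (g := ψ) fun i => by
      show Θ (σ (X i)) = ψ (X i)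
      rw [show σ (X i) = (1 : H) ⊗ₜ[E] Ideal.Quotient.mk I₀ (X i) from aeval_X _ i]
      simp [Θ, hχ, y]) P
  have hσ : Function.Surjective σ := by
    intro z
    induction z using TensorProduct.induction_on with
    | zero => exact ⟨0, map_zero σ⟩
    | add a b ha hb =>
      obtain ⟨P, rfl⟩ := ha
      obtain ⟨Q, rfl⟩ := hb
      exact ⟨P + Q, map_add σ P Q⟩
    | tmul h c =>
      obtain ⟨P, rfl⟩ := Ideal.Quotient.mk_surjective c
      refine ⟨C h * MvPolynomial.map (algebraMap E H) P, ?_⟩
      rw [map_mul, show σ (MvPolynomial.map (algebraMap E H) P) =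
        aeval (fun i => (1 : H) ⊗ₜ[E] Ideal.Quotient.mk I₀ (X i)) P from MvPolynomial.aeval_map_algebraMap H _ _,
        show σ (C h) = h ⊗ₜ[E] (1 : C0) from aeval_C _ h,
        show aeval (fun i => (1 : H) ⊗ₜ[E] Ideal.Quotient.mk I₀ (X i)) P = (1 : H) ⊗ₜ[E] Ideal.Quotient.mk I₀ P from
          DFunLike.congr_fun (MvPolynomial.algHom_ext (f := aeval (fun i => (1 : H) ⊗ₜ[E] Ideal.Quotient.mk I₀ (X i)))
            (g := (Algebra.TensorProduct.includeRight).comp (Ideal.Quotient.mkₐ E I₀)) fun i => aeval_X _ i) P,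
        Algebra.TensorProduct.tmul_mul_tmul, mul_one, one_mul]
  refine ⟨fun a b hab => ?_, fun x => ?_⟩
  · obtain ⟨P, rfl⟩ := hσ a
    obtain ⟨Q, rfl⟩ := hσ b
    rw [← sub_eq_zero, ← map_sub]
    refine hσG _ (RingHom.mem_ker.2 ?_)
    rw [map_sub, sub_eq_zero, ← hΘσ, ← hΘσ]
    exact hab
  · obtain ⟨P, rfl⟩ := hψ x
    exact ⟨σ P, hΘσ P⟩

/-- Transport of a henselization along an isomorphism of the target. -/
theorem isHenselization_of_target {C S S' : Type u} [CommRing C] [IsLocalRing C] [CommRing S] [IsLocalRing S]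
    [Algebra C S] [IsLocalHom (algebraMap C S)] [Hensel.IsHenselization C S] [CommRing S'] [IsLocalRing S']
    [Algebra C S'] [IsLocalHom (algebraMap C S')] (e : S ≃+* S') (he : ∀ c, e (algebraMap C S c) = algebraMap C S' c) :
    Hensel.IsHenselization C S' := by
  haveI := Hensel.IsHenselization.henselian (R := C) (S := S)
  refine ⟨H12AlgSp.henselianLocalRing_of_ringEquiv e, fun T _ _ f hf => ?_⟩
  obtain ⟨g, hg, hu⟩ := Hensel.IsHenselization.universal (R := C) (S := S) T f hf
  refine ⟨g.comp e.symm.toRingHom, RingHom.ext fun c => ?_, fun g' hg' => RingHom.ext fun x => ?_⟩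
  · show g (e.symm (algebraMap C S' c)) = f c
    rw [← he, RingEquiv.symm_apply_apply]
    exact RingHom.congr_fun hg c
  · have h := hu (g'.comp e.toRingHom) (RingHom.ext fun c => by
      show g' (e (algebraMap C S c)) = f c
      rw [he]
      exact RingHom.congr_fun hg' c)
    show g' x = g (e.symm x)
    rw [← h]
    simp

/-- Transport of a henselization along an isomorphic base. -/
theorem exists_isHenselization_atPrime {A E C0 C H1 : Type u} [CommRing A] [CommRing E] [CommRing C0]
    [CommRing H1] [IsLocalRing H1] [Algebra A H1] [Algebra A C0] [CommRing C] [IsLocalRing C] [Algebra C0 C]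
    [Algebra C0 H1] [IsScalarTower A C0 H1] (q : Ideal C0) [q.IsPrime] [IsLocalization.AtPrime C q]
    [Algebra C H1] [IsScalarTower C0 C H1] [IsLocalHom (algebraMap C H1)] [Hensel.IsHenselization C H1] :
    ∃ (_ : Algebra (Localization.AtPrime q) H1) (_ : IsScalarTower A (Localization.AtPrime q) H1)
      (_ : IsLocalHom (algebraMap (Localization.AtPrime q) H1)),
      Hensel.IsHenselization (Localization.AtPrime q) H1 := by
  let e : Localization.AtPrime q ≃ₐ[C0] C := IsLocalization.algEquiv q.primeCompl _ _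
  letI : Algebra (Localization.AtPrime q) H1 := ((algebraMap C H1).comp e.toRingEquiv.toRingHom).toAlgebra
  haveI : IsScalarTower A (Localization.AtPrime q) H1 := IsScalarTower.of_algebraMap_eq fun a => by
    show _ = algebraMap C H1 (e (algebraMap A _ a))
    rw [IsScalarTower.algebraMap_apply A C0 (Localization.AtPrime q), e.commutes,
      ← IsScalarTower.algebraMap_apply C0 C H1, ← IsScalarTower.algebraMap_apply A C0 H1]
  haveI := NLCx.isLocalHom_ringEquiv e.toRingEquiv
  haveI : IsLocalHom (algebraMap (Localization.AtPrime q) H1) := RingHom.isLocalHom_comp _ _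
  exact ⟨inferInstance, inferInstance, inferInstance,
    NLCx.isHenselization_of_equiv (R := C) (R' := Localization.AtPrime q) e.toRingEquiv rfl⟩

/-- A finite local algebra over a henselization of a local ring essentially of finite type is one. -/
theorem isHensEFT_of_finite {A H H1 : Type u} [CommRing A] [CommRing H] [HenselianLocalRing H]
    [IsNoetherianRing H] [CommRing H1] [IsLocalRing H1] [Algebra A H] [Algebra A H1] [Algebra H H1]
    [IsScalarTower A H H1] [IsLocalHom (algebraMap H H1)] [Module.Finite H H1] (hH : IsHensEFT A H) :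
    IsHensEFT A H1 := by
  classical
  obtain ⟨n, ψ, hψ⟩ := Algebra.FiniteType.iff_quotient_mvPolynomial''.1
    (inferInstance : Algebra.FiniteType H H1)
  obtain ⟨G, hG⟩ : (RingHom.ker ψ).FG := IsNoetherian.noetherian _
  choose f hfm hf using fun i : Fin n => Algebra.IsIntegral.isIntegral (R := H) (ψ (X i))
  obtain ⟨E, _, _, _, e, _, _, _, _, hE, hs⟩ := exists_stage hH
    ((Finset.univ.biUnion fun i => (f i).coeffs) ∪ G.biUnion fun g => g.coeffs)
  letI : Algebra E H := ((algebraMap (Localization.AtPrime e) H).comp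
    (algebraMap E (Localization.AtPrime e))).toAlgebra
  haveI : IsScalarTower E (Localization.AtPrime e) H := IsScalarTower.of_algebraMap_eq fun _ => rfl
  haveI : IsScalarTower A E H := IsScalarTower.of_algebraMap_eq fun a => by
    show algebraMap A H a = algebraMap (Localization.AtPrime e) H (algebraMap E _ (algebraMap A E a))
    rw [← IsScalarTower.algebraMap_apply A E (Localization.AtPrime e), ← IsScalarTower.algebraMap_apply]
  letI : Algebra E H1 := ((algebraMap H H1).comp (algebraMap E H)).toAlgebra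
  haveI : IsScalarTower E H H1 := IsScalarTower.of_algebraMap_eq fun _ => rfl
  have hmem : ∀ x ∈ (Finset.univ.biUnion fun i => (f i).coeffs) ∪ G.biUnion fun g => g.coeffs,
      x ∈ Set.range (algebraMap E H) := fun x hx => hs x hx
  have h0 : (0 : H) ∈ Set.range (algebraMap E H) := ⟨0, map_zero _⟩
  obtain ⟨C0, _, _, _, χ, hΘ⟩ := exists_model (E := E) ψ hψ G hG f hfm hf (fun i j => by
      by_cases hc : (f i).coeff j = 0
      · rw [hc]; exact h0
      · exact hmem _ (Finset.mem_union_left _ (Finset.mem_biUnion.2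
          ⟨i, Finset.mem_univ _, Polynomial.coeff_mem_coeffs hc⟩)))
    (fun g hg d => by
      by_cases hc : MvPolynomial.coeff d g = 0
      · rw [hc]; exact h0
      · exact hmem _ (Finset.mem_union_right _ (Finset.mem_biUnion.2
          ⟨g, hg, MvPolynomial.coeff_mem_coeffs d hc⟩)))
  let Θ : H ⊗[E] C0 →ₐ[H] H1 := Algebra.TensorProduct.lift (Algebra.ofId H H1) χ fun _ _ => Commute.all _ _
  letI : Algebra A C0 := ((algebraMap E C0).comp (algebraMap A E)).toAlgebra
  haveI : IsScalarTower A E C0 := IsScalarTower.of_algebraMap_eq fun _ => rfl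
  haveI : Algebra.FiniteType A C0 := Algebra.FiniteType.trans (S := E) ‹_› inferInstance
  letI : Algebra C0 H1 := χ.toRingHom.toAlgebra
  haveI : IsScalarTower E C0 H1 := IsScalarTower.of_algebraMap_eq fun z => (χ.commutes z).symm
  haveI : IsScalarTower A C0 H1 := IsScalarTower.of_algebraMap_eq fun a => by
    rw [IsScalarTower.algebraMap_apply A E C0, ← IsScalarTower.algebraMap_apply E C0 H1,
      IsScalarTower.algebraMap_apply A H H1, IsScalarTower.algebraMap_apply A E H]
    rfl
  let L := Localization.AtPrime e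
  -- the only prime of `C0` over `e`
  let q : Ideal C0 := (maximalIdeal H1).comap χ.toRingHom
  haveI : q.IsPrime := Ideal.comap_isPrime _ _
  have hmH : (maximalIdeal H1).comap (algebraMap H H1) = maximalIdeal H :=
    (eq_maximalIdeal (Ideal.isMaximal_comap_of_isIntegral_of_isMaximal (R := H) (maximalIdeal H1)))
  have heH : ∀ z : E, algebraMap E H z ∈ maximalIdeal H ↔ z ∈ e := fun z => by
    rw [IsScalarTower.algebraMap_apply E L H, mem_maximalIdeal, mem_nonunits_iff, isUnit_map_iff,
      IsLocalization.AtPrime.isUnit_to_map_iff L e, Ideal.mem_primeCompl_iff, not_not]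
  have hqe : q.comap (algebraMap E C0) = e := by
    ext z
    rw [Ideal.mem_comap, Ideal.mem_comap, ← heH, ← hmH, Ideal.mem_comap]
    show χ (algebraMap E C0 z) ∈ _ ↔ _
    rw [χ.commutes]
    rfl
  have huniq : ∀ Q : Ideal C0, Q.IsPrime → Q.comap (algebraMap E C0) = e → Q = q := by
    intro Q _ hQ
    haveI : Q.LiesOver e := ⟨hQ.symm⟩
    haveI : e.IsPrime := inferInstance
    let resL : ResidueField L →+* ResidueField H := ResidueField.map (algebraMap L H)
    have hres : Function.Surjective resL := (Groth.Agent.S0508.result L H).2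
    obtain ⟨ρ, hρ⟩ : ∃ ρ : H →+* Q.ResidueField,
        ρ.comp (algebraMap E H) = (algebraMap C0 Q.ResidueField).comp (algebraMap E C0) ∧
        ∀ x ∈ maximalIdeal H, ρ x = 0 := by
      let eR := RingEquiv.ofBijective resL ⟨RingHom.injective _, hres⟩
      let toQ : ResidueField L →+* Q.ResidueField :=
        Ideal.ResidueField.lift e ((algebraMap C0 Q.ResidueField).comp (algebraMap E C0))
          (fun z hz => by
            rw [RingHom.mem_ker, RingHom.comp_apply, Ideal.algebraMap_residueField_eq_zero]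
            exact (hQ ▸ hz : z ∈ Q.comap (algebraMap E C0)))
          fun z hz => isUnit_iff_ne_zero.2 fun h => hz (by
            rw [RingHom.comp_apply, Ideal.algebraMap_residueField_eq_zero] at h
            exact hQ.le h)
      refine ⟨(toQ.comp eR.symm.toRingHom).comp (residue H), RingHom.ext fun z => ?_, fun x hx => by
        simp [(residue_eq_zero_iff x).2 hx]⟩
      show toQ (eR.symm (residue H (algebraMap E H z))) = _
      rw [show residue H (algebraMap E H z) = eR (residue L (algebraMap E L z)) by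
        show _ = residue H (algebraMap L H (algebraMap E L z))
        rw [← IsScalarTower.algebraMap_apply], RingEquiv.symm_apply_apply]
      exact Ideal.ResidueField.lift_algebraMap _ _ _ _ z
    letI : Algebra H Q.ResidueField := ρ.toAlgebra
    haveI : IsScalarTower E H Q.ResidueField := IsScalarTower.of_algebraMap_eq fun z => by
      show algebraMap E Q.ResidueField z = ρ (algebraMap E H z)
      rw [IsScalarTower.algebraMap_apply E C0 Q.ResidueField]
      exact (RingHom.congr_fun hρ.1 z).symm
    let Φ : H ⊗[E] C0 →ₐ[H] Q.ResidueField :=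
      Algebra.TensorProduct.lift (Algebra.ofId H _) (IsScalarTower.toAlgHom E C0 _) fun _ _ => Commute.all _ _
    let Θe := AlgEquiv.ofBijective Θ hΘ
    let P : Ideal H1 := RingHom.ker (Φ.comp Θe.symm.toAlgHom)
    haveI : P.IsPrime := RingHom.ker_isPrime _
    have hP : P.comap (algebraMap H H1) = maximalIdeal H := by
      refine ((maximalIdeal.isMaximal H).eq_of_le (Ideal.comap_isPrime _ P).ne_top fun x hx => ?_).symm
      rw [Ideal.mem_comap, RingHom.mem_ker, AlgHom.commutes]
      exact hρ.2 x hx
    have hPm : P = maximalIdeal H1 := eq_maximalIdeal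
      (Ideal.isMaximal_of_isIntegral_of_isMaximal_comap (R := H) P (hP ▸ maximalIdeal.isMaximal H))
    ext c
    show c ∈ Q ↔ χ c ∈ maximalIdeal H1
    rw [← hPm, RingHom.mem_ker, AlgHom.comp_apply]
    have : Θe.symm (χ c) = (1 : H) ⊗ₜ[E] c := Θe.injective (by
      rw [AlgEquiv.apply_symm_apply]
      exact (by simp [Θ, Θe] : χ c = Θ ((1 : H) ⊗ₜ[E] c)))
    show _ ↔ Φ (Θe.symm (χ c)) = 0
    rw [this]
    simp [Φ, Ideal.algebraMap_residueField_eq_zero]
  -- the local ring of `C0`
  let M := Algebra.algebraMapSubmonoid C0 e.primeCompl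
  let C := Localization M
  haveI : Module.Finite L C := Module.Finite.of_isLocalization E C0 e.primeCompl
  have hMq : M ≤ q.primeCompl := by
    rintro _ ⟨z, hz, rfl⟩
    exact fun h => hz (hqe.le h)
  have hu : ∀ m : M, IsUnit (algebraMap C0 H1 m) := fun m => notMem_maximalIdeal.1 (hMq m.2)
  letI : Algebra C H1 := (IsLocalization.lift hu).toAlgebra
  haveI : IsScalarTower C0 C H1 := IsScalarTower.of_algebraMap_eq fun z => (IsLocalization.lift_eq hu z).symm
  haveI : Nontrivial C := (algebraMap C H1).domain_nontrivial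
  haveI : Algebra.IsIntegral L C := Algebra.IsIntegral.of_finite L C
  have hmaxq : ∀ N : Ideal C, N.IsMaximal → N.comap (algebraMap C0 C) = q := by
    intro N hN
    haveI := hN.isPrime
    refine huniq _ (Ideal.comap_isPrime _ N) ?_
    have h1 := eq_maximalIdeal (Ideal.isMaximal_comap_of_isIntegral_of_isMaximal (R := L) N)
    rw [Ideal.comap_comap, ← IsScalarTower.algebraMap_eq E C0 C, IsScalarTower.algebraMap_eq E L C,
      ← Ideal.comap_comap, h1]
    exact IsLocalization.AtPrime.under_maximalIdeal L e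
  haveI : IsLocalRing C := by
    obtain ⟨N₀, hN₀⟩ := Ideal.exists_maximal C
    refine IsLocalRing.of_unique_max_ideal ⟨N₀, hN₀, fun N hN => ?_⟩
    rw [← IsLocalization.map_comap M C N, ← IsLocalization.map_comap M C N₀]
    exact congrArg (Ideal.map (algebraMap C0 C)) ((hmaxq N hN).trans (hmaxq N₀ hN₀).symm)
  haveI : IsLocalHom (algebraMap L C) := ⟨fun a ha => notMem_maximalIdeal.1 fun h => by
    rw [← eq_maximalIdeal (Ideal.isMaximal_comap_of_isIntegral_of_isMaximal (R := L) (maximalIdeal C))] at h
    exact (mem_maximalIdeal _).1 (Ideal.mem_comap.1 h) ha⟩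
  haveI : IsLocalization.AtPrime C q := by
    refine IsLocalization.of_le M q.primeCompl hMq fun z hz => ?_
    exact notMem_maximalIdeal.1 fun h => hz ((hmaxq _ (maximalIdeal.isMaximal C)).le h)
  have hcC : (maximalIdeal H1).comap (algebraMap C H1) = maximalIdeal C := by
    rw [← IsLocalization.map_comap M C (maximalIdeal C), ← IsLocalization.map_comap M C
      ((maximalIdeal H1).comap (algebraMap C H1))]
    refine congrArg (Ideal.map (algebraMap C0 C)) (Eq.trans ?_ (hmaxq _ (maximalIdeal.isMaximal C)).symm)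
    show ((maximalIdeal H1).comap (algebraMap C H1)).comap (algebraMap C0 C) = q
    rw [Ideal.comap_comap, ← IsScalarTower.algebraMap_eq C0 C H1]
    rfl
  haveI : IsLocalHom (algebraMap C H1) := ⟨fun a ha => notMem_maximalIdeal.1 fun h => by
    rw [← hcC] at h
    exact (mem_maximalIdeal _).1 (Ideal.mem_comap.1 h) ha⟩
  obtain ⟨_, _, hT⟩ := H9Hens.exists_isHenselization_tensor L C H
  -- `C ⊗_L H` is `H1`
  letI : Algebra L H1 := ((algebraMap H H1).comp (algebraMap L H)).toAlgebra
  haveI : IsScalarTower L H H1 := IsScalarTower.of_algebraMap_eq fun _ => rfl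
  haveI : IsScalarTower E L H1 := IsScalarTower.of_algebraMap_eq fun z => by
    rw [IsScalarTower.algebraMap_apply E H H1, IsScalarTower.algebraMap_apply E L H,
      ← IsScalarTower.algebraMap_apply L H H1]
  haveI : IsScalarTower L C H1 := IsScalarTower.of_algebraMap_eq' (IsLocalization.ringHom_ext e.primeCompl
    (RingHom.ext fun z => by
      simp only [RingHom.comp_apply]
      rw [← IsScalarTower.algebraMap_apply E L C, IsScalarTower.algebraMap_apply E C0 C,
        ← IsScalarTower.algebraMap_apply C0 C H1, ← IsScalarTower.algebraMap_apply E C0 H1,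
        ← IsScalarTower.algebraMap_apply E L H1]))
  let Λ : C ⊗[L] H →ₐ[C] H1 := Algebra.TensorProduct.lift (Algebra.ofId C H1)
    (IsScalarTower.toAlgHom L H H1) fun _ _ => Commute.all _ _
  letI : Algebra H (C ⊗[L] H) := (Algebra.TensorProduct.includeRight : H →ₐ[L] C ⊗[L] H).toRingHom.toAlgebra
  haveI : IsScalarTower E H (C ⊗[L] H) := IsScalarTower.of_algebraMap_eq fun z => by
    show _ = (1 : C) ⊗ₜ[L] algebraMap E H z
    rw [IsScalarTower.algebraMap_apply E L (C ⊗[L] H), IsScalarTower.algebraMap_apply E L H]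
    exact ((Algebra.TensorProduct.includeRight : H →ₐ[L] C ⊗[L] H).commutes _).symm
  let Γ₀ : H ⊗[E] C0 →ₐ[H] C ⊗[L] H := Algebra.TensorProduct.lift (Algebra.ofId H _)
    (((Algebra.TensorProduct.includeLeft : C →ₐ[L] C ⊗[L] H).restrictScalars E).comp
      (IsScalarTower.toAlgHom E C0 C)) fun _ _ => Commute.all _ _
  let Γ : H1 →+* C ⊗[L] H := Γ₀.toRingHom.comp (AlgEquiv.ofBijective Θ hΘ).symm.toRingEquiv.toRingHom
  have hΓH : ∀ h, Γ (algebraMap H H1 h) = (1 : C) ⊗ₜ[L] h := fun h => by
    show Γ₀ ((AlgEquiv.ofBijective Θ hΘ).symm (algebraMap H H1 h)) = _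
    rw [AlgEquiv.commutes, AlgHom.commutes]
    rfl
  have hΓC : ∀ c, Γ (χ c) = algebraMap C0 C c ⊗ₜ[L] (1 : H) := fun c => by
    show Γ₀ ((AlgEquiv.ofBijective Θ hΘ).symm (χ c)) = _
    rw [show χ c = AlgEquiv.ofBijective Θ hΘ ((1 : H) ⊗ₜ[E] c) by simp [Θ], AlgEquiv.symm_apply_apply]
    simp [Γ₀]
  have h1 : ∀ x, Λ (Γ x) = x := by
    intro x
    obtain ⟨z, rfl⟩ := hΘ.2 x
    induction z using TensorProduct.induction_on with
    | zero => simp
    | add a b ha hb => rw [map_add, map_add, map_add, ha, hb]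
    | tmul h c =>
      have : Θ (h ⊗ₜ[E] c) = algebraMap H H1 h * χ c := by simp [Θ]
      rw [this, map_mul, map_mul, hΓH, hΓC]
      simp [Λ, ← IsScalarTower.algebraMap_apply C0 C H1]
      rfl
  have h2 : ∀ z, Γ (Λ z) = z := by
    intro z
    induction z using TensorProduct.induction_on with
    | zero => simp
    | add a b ha hb => rw [map_add, map_add, ha, hb]
    | tmul c h =>
      have h3 : Γ (algebraMap C H1 c) = c ⊗ₜ[L] (1 : H) := by
        refine RingHom.congr_fun (f := Γ.comp (algebraMap C H1))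
          (g := (Algebra.TensorProduct.includeLeftRingHom : C →+* C ⊗[L] H)) ?_ c
        refine IsLocalization.ringHom_ext M (RingHom.ext fun z => ?_)
        show Γ (algebraMap C H1 (algebraMap C0 C z)) = _
        rw [← IsScalarTower.algebraMap_apply C0 C H1]
        exact hΓC z
      rw [show Λ (c ⊗ₜ[L] h) = algebraMap C H1 c * algebraMap H H1 h by simp [Λ], map_mul, h3, hΓH,
        Algebra.TensorProduct.tmul_mul_tmul, mul_one, one_mul]
  let ΛE : C ⊗[L] H ≃+* H1 := RingEquiv.ofRingHom Λ.toRingHom Γ (RingHom.ext h1) (RingHom.ext h2)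
  haveI : Hensel.IsHenselization C H1 := isHenselization_of_target ΛE fun c => Λ.commutes c
  exact ⟨C0, inferInstance, inferInstance, inferInstance, q, inferInstance,
    exists_isHenselization_atPrime (E := E) (C := C) q⟩

end Groth.Agent.H8Props.HensEFT
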