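import Groth.Agent.H9Hens.PtAtPrime
import Groth.Agent.H9Hens.TensorHens
import Groth.Agent.H8Props.NLCx.HenselLift
import Groth.Prelude.Def_Hensel

/-!
# Henselizations and etale stages
-/

set_option autoImplicit false
set_option linter.unusedSectionVars false
set_option linter.style.haveILetI false
set_option maxHeartbeats 1600000
universe u

open IsLocalRing TensorProduct
open Groth.Agent.H9Hens

namespace Groth.Agent.H8Props.HensEFT

/-- A colimit of pointed etale algebras with point the residue field of a prime is the henselization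
of the local ring at that prime. -/
theorem isHenselization_of_isPtColim {R : Type u} [CommRing R] (p : Ideal R) [p.IsPrime] {H : Type u}
    [CommRing H] [IsLocalRing H] [Algebra R H] {π : H →ₐ[R] p.ResidueField} (hπ : IsPtColim π)
    [Algebra (Localization.AtPrime p) H] [IsScalarTower R (Localization.AtPrime p) H]
    [IsLocalHom (algebraMap (Localization.AtPrime p) H)] :
    Hensel.IsHenselization (Localization.AtPrime p) H := by
  let Rp := Localization.AtPrime p
  have hker : ∀ r : R, π (algebraMap R H r) = 0 ↔ r ∈ p := fun r => by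
    rw [π.commutes, Ideal.algebraMap_residueField_eq_zero]
  have hπz : ∀ z : Rp, π (algebraMap Rp H z) = residue Rp z := fun z => by
    have : π.toRingHom.comp (algebraMap Rp H) = residue Rp := by
      refine IsLocalization.ringHom_ext p.primeCompl ?_
      rw [RingHom.comp_assoc, ← IsScalarTower.algebraMap_eq, AlgHom.toRingHom_eq_coe,
        AlgHom.comp_algebraMap]
      rfl
    exact RingHom.congr_fun this z
  have hcomap : (RingHom.ker π).comap (algebraMap R H) = p := Ideal.ext fun r => hker r
  have hgen : RingHom.ker π ≤ p.map (algebraMap R H) := fun x hx => by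
    have := RingHom.ker_isPrime π
    obtain ⟨c, hc, hcx⟩ := hπ.exists_mul_mem_map (RingHom.ker π) hx
    rw [hcomap] at hcx
    exact (Ideal.unit_mul_mem_iff_mem _
      (hπ.isUnit_iff_ne_zero.mpr fun h => hc (RingHom.mem_ker.mpr h))).mp hcx
  have hH' : Hensel.IsHenselization Rp H := by
    refine ⟨hπ.henselianLocalRing, fun T _ _ f hf => ?_⟩
    let : Algebra R T := (f.comp (algebraMap R Rp)).toAlgebra
    let ρ : p.ResidueField →ₐ[R] T ⧸ maximalIdeal T :=
      { (ResidueField.map f : ResidueField Rp →+* T ⧸ maximalIdeal T) with commutes' := fun _ => rfl }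
    obtain ⟨g, hg, hgu⟩ := hπ.existsUnique_algHom ρ
    refine ⟨g.toRingHom, ?_, fun g' hg' => ?_⟩
    · refine IsLocalization.ringHom_ext p.primeCompl ?_
      rw [RingHom.comp_assoc, ← IsScalarTower.algebraMap_eq, AlgHom.toRingHom_eq_coe,
        AlgHom.comp_algebraMap]
      rfl
    · have hc : ∀ r, g' (algebraMap R H r) = algebraMap R T r := fun r => by
        rw [IsScalarTower.algebraMap_apply R Rp H]
        exact RingHom.congr_fun hg' _
      let g'' : H →ₐ[R] T := { g' with commutes' := hc }
      refine congrArg AlgHom.toRingHom (hgu g'' (AlgHom.ext fun x => ?_))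
      obtain ⟨z, hz⟩ := residue_surjective (π x)
      have hx : x - algebraMap Rp H z ∈ p.map (algebraMap R H) := hgen (by
        rw [RingHom.mem_ker, map_sub, hπz, ← hz]; exact sub_self _)
      have hle : (p.map (algebraMap R H)).map g''.toRingHom ≤ maximalIdeal T := by
        rw [Ideal.map_map, AlgHom.toRingHom_eq_coe, AlgHom.comp_algebraMap,
          Ideal.map_le_iff_le_comap]
        intro r hr
        exact (mem_maximalIdeal _).mpr fun h => (IsLocalization.AtPrime.isUnit_to_map_iff Rp p r).mp
          (isUnit_of_map_unit f _ h) hr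
      have h1 : g' x - f z ∈ maximalIdeal T := by
        rw [← RingHom.congr_fun hg' z, RingHom.comp_apply, ← map_sub]
        exact hle (Ideal.mem_map_of_mem g''.toRingHom hx)
      show Ideal.Quotient.mk (maximalIdeal T) (g' x) = ρ (π x)
      rw [Ideal.Quotient.eq.mpr h1, ← hz]
      rfl
  exact hH'

/-- Change of the point along an isomorphism. -/
theorem isPtColim_comp_equiv {A k k' H : Type u} [CommRing A] [CommRing k] [Algebra A k] [CommRing k']
    [Algebra A k'] [CommRing H] [Algebra A H] {π : H →ₐ[A] k} (hπ : IsPtColim π) (e : k ≃ₐ[A] k') :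
    IsPtColim (e.toAlgHom.comp π) where
  exists_rep := hπ.exists_rep
  exists_map S _ _ _ σ := by
    obtain ⟨φ, hφ⟩ := hπ.exists_map S (e.symm.toAlgHom.comp σ)
    refine ⟨φ, AlgHom.ext fun s => ?_⟩
    show e (π (φ s)) = σ s
    rw [show π (φ s) = e.symm (σ s) from DFunLike.congr_fun hφ s, AlgEquiv.apply_symm_apply]
  jac := fun x hx => hπ.jac (RingHom.mem_ker.2 ((map_eq_zero_iff e e.injective).1 (RingHom.mem_ker.1 hx)))
  exists_eq_zero := hπ.exists_eq_zero

/-- `A'` is a henselization of a local ring essentially of finite type over `A`. -/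
def IsHensEFT (A A' : Type u) [CommRing A] [CommRing A'] [IsLocalRing A'] [Algebra A A'] : Prop :=
  ∃ (B : Type u) (_ : CommRing B) (_ : Algebra A B) (_ : Algebra.FiniteType A B) (p : Ideal B) (_ : p.IsPrime)
    (_ : Algebra (Localization.AtPrime p) A') (_ : IsScalarTower A (Localization.AtPrime p) A')
    (_ : IsLocalHom (algebraMap (Localization.AtPrime p) A')), Hensel.IsHenselization (Localization.AtPrime p) A'

/-- A henselization of a local ring essentially of finite type is one over a stage containing any
given finite set. -/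
theorem exists_stage {A H : Type u} [CommRing A] [CommRing H] [IsLocalRing H] [Algebra A H]
    (hH : IsHensEFT A H) (s : Finset H) :
    ∃ (E : Type u) (_ : CommRing E) (_ : Algebra A E) (_ : Algebra.FiniteType A E) (e : Ideal E) (_ : e.IsPrime)
      (_ : Algebra (Localization.AtPrime e) H) (_ : IsScalarTower A (Localization.AtPrime e) H)
      (_ : IsLocalHom (algebraMap (Localization.AtPrime e) H)),
      Hensel.IsHenselization (Localization.AtPrime e) H ∧
      ∀ x ∈ s, ∃ z : E, algebraMap (Localization.AtPrime e) H (algebraMap E (Localization.AtPrime e) z) = x := by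
  classical
  obtain ⟨B, _, _, _, p, _, _, _, _, hB⟩ := hH
  letI : Algebra B H := ((algebraMap (Localization.AtPrime p) H).comp
    (algebraMap B (Localization.AtPrime p))).toAlgebra
  haveI : IsScalarTower B (Localization.AtPrime p) H := IsScalarTower.of_algebraMap_eq fun _ => rfl
  haveI : IsScalarTower A B H := IsScalarTower.of_algebraMap_eq fun a => by
    show algebraMap A H a = algebraMap (Localization.AtPrime p) H (algebraMap B _ (algebraMap A B a))
    rw [← IsScalarTower.algebraMap_apply A B (Localization.AtPrime p), ← IsScalarTower.algebraMap_apply]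
  obtain ⟨π, hπ⟩ := exists_isPtColim_henselization_atPrime p H
  obtain ⟨E, iE, iBE, hE, φ, hφ⟩ : ∃ (E : Type u) (_ : CommRing E) (_ : Algebra B E) (_ : Algebra.Etale B E)
      (φ : E →ₐ[B] H), ∀ x ∈ s, x ∈ Set.range φ := by
    induction s using Finset.induction_on with
    | empty => exact ⟨B, inferInstance, inferInstance, inferInstance, Algebra.ofId B H, by simp⟩
    | insert x t _ ih =>
      obtain ⟨E, _, _, _, φ, hφ⟩ := ih
      obtain ⟨T, _, _, _, ψ, y, rfl⟩ := hπ.exists_rep x
      refine ⟨E ⊗[B] T, inferInstance, inferInstance, Algebra.Etale.comp B E _,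
        Algebra.TensorProduct.lift φ ψ fun _ _ => Commute.all _ _, fun z hz => ?_⟩
      rcases Finset.mem_insert.1 hz with rfl | hz
      · exact ⟨1 ⊗ₜ y, by simp⟩
      · obtain ⟨w, rfl⟩ := hφ z hz
        exact ⟨w ⊗ₜ 1, by simp⟩
  letI : Algebra A E := ((algebraMap B E).comp (algebraMap A B)).toAlgebra
  haveI : IsScalarTower A B E := IsScalarTower.of_algebraMap_eq fun _ => rfl
  haveI : Algebra.FiniteType A E := Algebra.FiniteType.trans (S := B) ‹_› inferInstance
  letI : Algebra E H := φ.toRingHom.toAlgebra
  haveI : IsScalarTower B E H := IsScalarTower.of_algebraMap_eq fun b => (φ.commutes b).symm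
  let σ : E →+* p.ResidueField := π.toRingHom.comp (algebraMap E H)
  letI : Algebra E p.ResidueField := σ.toAlgebra
  haveI : IsScalarTower B E p.ResidueField := IsScalarTower.of_algebraMap_eq fun b => by
    show algebraMap B p.ResidueField b = π (algebraMap E H (algebraMap B E b))
    rw [← IsScalarTower.algebraMap_apply B E H, π.commutes]
  let e : Ideal E := RingHom.ker σ
  haveI : e.IsPrime := RingHom.ker_isPrime σ
  have hunits : ∀ z : E, z ∉ e → IsUnit (algebraMap E H z) := fun z hz =>
    hπ.isUnit_iff_ne_zero.2 fun h => hz (RingHom.mem_ker.2 h)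
  let π' : H →ₐ[E] p.ResidueField := { π.toRingHom with commutes' := fun _ => rfl }
  have hπ' : IsPtColim π' := hπ.overBase E fun _ => rfl
  let τ : e.ResidueField →ₐ[E] p.ResidueField := Ideal.ResidueField.liftₐ e (Algebra.ofId E p.ResidueField)
    (fun z hz => RingHom.mem_ker.1 hz) fun z hz => isUnit_iff_ne_zero.2 fun h => hz (RingHom.mem_ker.2 h)
  have hτ : Function.Surjective τ := by
    intro y
    obtain ⟨b, c, hc, rfl⟩ := IsFractionRing.div_surjective (A := B ⧸ p) y
    obtain ⟨b, rfl⟩ := Ideal.Quotient.mk_surjective b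
    obtain ⟨c, rfl⟩ := Ideal.Quotient.mk_surjective c
    refine ⟨algebraMap E _ (algebraMap B E b) / algebraMap E _ (algebraMap B E c), ?_⟩
    rw [map_div₀, AlgHom.commutes, AlgHom.commutes, ← IsScalarTower.algebraMap_apply,
      ← IsScalarTower.algebraMap_apply]
    rfl
  let ε : e.ResidueField ≃ₐ[E] p.ResidueField := AlgEquiv.ofBijective τ ⟨τ.toRingHom.injective, hτ⟩
  have hπe := isPtColim_comp_equiv hπ' ε.symm
  letI : Algebra (Localization.AtPrime e) H :=
    (IsLocalization.lift (M := e.primeCompl) (g := algebraMap E H) fun z => hunits z z.2).toAlgebra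
  haveI : IsScalarTower E (Localization.AtPrime e) H :=
    IsScalarTower.of_algebraMap_eq fun z => (IsLocalization.lift_eq _ z).symm
  haveI : IsLocalHom (algebraMap (Localization.AtPrime e) H) := by
    refine isLocalHom_of_atPrime e _ fun z hz => ?_
    rw [← IsScalarTower.algebraMap_apply]
    exact (mem_maximalIdeal _).2 fun h => (hπ.isUnit_iff_ne_zero.1 h) (RingHom.mem_ker.1 hz)
  haveI : IsScalarTower A (Localization.AtPrime e) H := IsScalarTower.of_algebraMap_eq fun a => by
    rw [IsScalarTower.algebraMap_apply A E (Localization.AtPrime e), ← IsScalarTower.algebraMap_apply E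
      (Localization.AtPrime e) H, IsScalarTower.algebraMap_apply A B E, ← IsScalarTower.algebraMap_apply B E H,
      ← IsScalarTower.algebraMap_apply A B H]
  refine ⟨E, inferInstance, inferInstance, inferInstance, e, inferInstance, inferInstance, inferInstance,
    inferInstance, isHenselization_of_isPtColim e hπe, fun x hx => ?_⟩
  obtain ⟨z, rfl⟩ := hφ x hx
  exact ⟨z, (IsScalarTower.algebraMap_apply E (Localization.AtPrime e) H z).symm⟩

end Groth.Agent.H8Props.HensEFT
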